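import Groth.Agent.Lib.BiratPt18.Main
import Groth.Agent.Lib.FibIneq18.Basic
import Mathlib.AlgebraicGeometry.ZariskisMainTheorem

/-!
# Birational morphisms, quasi-finite loci
-/

universe u

open CategoryTheory AlgebraicGeometry TopologicalSpace

namespace Groth.Agent.BiratPt18

variable {X Y : Scheme.{u}}

theorem locallyQuasiFinite_of_forall (f : Y ⟶ X) [LocallyOfFiniteType f] (h : ∀ y, f.QuasiFiniteAt y) :
    LocallyQuasiFinite f := by
  rw [locallyQuasiFinite_iff_isDiscrete_preimage_singleton]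
  intro x
  rw [isDiscrete_iff_discreteTopology, discreteTopology_iff_isOpen_singleton]
  rintro ⟨y, rfl : f y = x⟩
  have h1 := (f.fiberHomeo (f y)).isOpen_image.2
    (Scheme.Hom.quasiFiniteAt_iff_isOpen_singleton_asFiber.1 (h y))
  rw [Set.image_singleton] at h1
  simp only [Scheme.Hom.asFiber, Homeomorph.apply_symm_apply] at h1
  exact h1

theorem le_one_of_not_two_le {d : WithBot ℕ∞} (h : ¬ 2 ≤ d) : d ≤ 1 := by
  induction d using WithBot.recBotCoe with
  | bot => exact bot_le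
  | coe a =>
    induction a using ENat.recTopCoe with
    | top => exact absurd (WithBot.coe_le_coe.2 le_top) h
    | coe n =>
      have : ¬ (2 ≤ n) := fun hn => h (WithBot.coe_le_coe.2 (show (2 : ℕ∞) ≤ (n : ℕ∞) by exact_mod_cast hn))
      have h1 : n ≤ 1 := by omega
      exact_mod_cast h1

theorem quasiFiniteAt_of_isIso_stalkMap (f : Y ⟶ X) (y : Y) (h : IsIso (f.stalkMap y)) :
    f.QuasiFiniteAt y :=
  RingHom.QuasiFinite.of_finite (RingHom.Finite.of_surjective _
    (ConcreteCategory.bijective_of_isIso (f.stalkMap y)).2)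

variable [IsIntegral X] [IsIntegral Y]

theorem stalk_data (f : Y ⟶ X) [LocallyOfFiniteType f] [IsSeparated f] [QuasiCompact f]
    (hgen : f (genericPoint Y) = genericPoint X) (hbir : IsIso (f.stalkMap (genericPoint Y)))
    (y : Y) (hx : IsIntegrallyClosed (X.presheaf.stalk (f y))) (hq : f.QuasiFiniteAt y) :
    IsIso (f.stalkMap y) ∧ ∀ y' : Y, f y' = f y → y' = y := by
  obtain ⟨V, hyV, hV⟩ := f.exists_mem_and_isIso_morphismRestrict_toNormalization y hq
  let t := f.toNormalization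
  let g := f.fromNormalization
  have htg : t ≫ g = f := f.toNormalization_fromNormalization
  have ht : t (genericPoint Y) = genericPoint f.normalization := generic_map t
  have hgen' : g (genericPoint f.normalization) = genericPoint X := by
    rw [← ht, ← Scheme.Hom.comp_apply, htg, hgen]
  have hiso : ∀ {w : Y}, w ∈ t ⁻¹ᵁ V → IsIso (t.stalkMap w) := fun {w} hw =>
    ((MorphismProperty.isomorphisms CommRingCat).arrow_mk_iso_iff
      (morphismRestrictStalkMap t V ⟨w, hw⟩)).1 inferInstance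
  have hbir' : IsIso (g.stalkMap (genericPoint f.normalization)) := by
    rw [← ht]
    have h0 : IsIso ((t ≫ g).stalkMap (genericPoint Y)) := by rw [htg]; exact hbir
    rw [Scheme.Hom.stalkMap_comp] at h0
    exact @IsIso.of_isIso_comp_right _ _ _ _ _ (g.stalkMap _) (t.stalkMap (genericPoint Y))
      (hiso (((genericPoint_spec Y).mem_open_set_iff (t ⁻¹ᵁ V).2).mpr ⟨y, trivial, hyV⟩)) h0
  have hgy : g (t y) = f y := by rw [← Scheme.Hom.comp_apply, htg]
  obtain ⟨huniq, hgiso⟩ := existsUnique_and_isIso g hgen' hbir' hx (t y) hgy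
  refine ⟨?_, fun y' hy' => ?_⟩
  · have h : IsIso ((t ≫ g).stalkMap y) := by
      rw [Scheme.Hom.stalkMap_comp]; exact IsIso.comp_isIso' hgiso (hiso hyV)
    rwa [htg] at h
  · have h1 : t y' = t y := huniq (t y') (by rw [← Scheme.Hom.comp_apply, htg, hy'])
    have h2 : y' ∈ t ⁻¹ᵁ V := by change t y' ∈ V; rw [h1]; exact hyV
    exact congrArg Subtype.val ((t ∣_ V).homeomorph.injective (a₁ := ⟨y', h2⟩) (a₂ := ⟨y, hyV⟩)
      (Subtype.ext ((morphismRestrict_base_coe t V ⟨y', h2⟩).trans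
        (h1.trans (morphismRestrict_base_coe t V ⟨y, hyV⟩).symm))))

theorem isOpenImmersion_of_normal (f : Y ⟶ X) [LocallyOfFiniteType f] [IsSeparated f] [QuasiCompact f]
    [LocallyQuasiFinite f] (hN : ∀ x : X, IsIntegrallyClosed (X.presheaf.stalk x))
    (hgen : f (genericPoint Y) = genericPoint X) (hbir : IsIso (f.stalkMap (genericPoint Y))) :
    IsOpenImmersion f ∧ (IsProper f → IsIso f) := by
  have hd := fun y => stalk_data f hgen hbir y (hN _) (f.quasiFiniteAt y)
  haveI : ∀ y, IsIso (f.stalkMap y) := fun y => (hd y).1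
  have hinj : Function.Injective f := fun a b h => (hd b).2 a h
  have hopen : IsOpenMap f := by
    intro s hs
    rw [isOpen_iff_forall_mem_open]
    rintro _ ⟨z, hz, rfl⟩
    obtain ⟨U, hzU, hU⟩ := Spread18.exists_openImmersion_nhd f z (hd z).1
    refine ⟨(U.ι ≫ f) '' (U.ι ⁻¹' s), ?_,
      (U.ι ≫ f).isOpenEmbedding.isOpenMap _ (hs.preimage U.ι.continuous), ⟨⟨z, hzU⟩, hz, rfl⟩⟩
    rintro _ ⟨w, hw, rfl⟩
    exact ⟨U.ι w, hw, rfl⟩
  haveI : IsOpenImmersion f :=
    IsOpenImmersion.of_isIso_stalkMap f (.of_continuous_injective_isOpenMap f.continuous hinj hopen)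
  refine ⟨inferInstance, fun _ => ?_⟩
  haveI : Epi f.base := by
    rw [TopCat.epi_iff_surjective]
    intro x
    exact ((genericPoint_spec X).specializes (Set.mem_univ x)).mem_closed f.isClosedMap.isClosed_range
      ⟨_, hgen⟩
  exact IsOpenImmersion.isIso f

theorem quasiFiniteAt_of_dim_le_one [IsLocallyNoetherian X] (f : Y ⟶ X) [LocallyOfFiniteType f]
    (hbir : IsIso (f.stalkMap (genericPoint Y))) (y : Y)
    (hy : ringKrullDim (X.presheaf.stalk (f y)) ≤ 1) : f.QuasiFiniteAt y := by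
  refine (FibDim14.fibreDimAt_eq_zero_iff f y).1 ?_
  refine FibIneq18.fibreDimAt_eq_of_dim_le_one f y hy 0 fun Z hZ _ η hη => ?_
  obtain rfl : η = genericPoint Y := by
    rw [irreducibleComponents_eq_singleton, Set.mem_singleton_iff] at hZ
    subst hZ
    exact hη.eq (genericPoint_spec Y)
  exact (FibDim14.fibreDimAt_eq_zero_iff f _).2 (quasiFiniteAt_of_isIso_stalkMap f _ hbir)

theorem surjective (f : Y ⟶ X) [UniversallyClosed f] (hgen : f (genericPoint Y) = genericPoint X)
    (x : X) : ∃ y, f y = x :=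
  ((genericPoint_spec X).specializes (Set.mem_univ x)).mem_closed f.isClosedMap.isClosed_range
    ⟨_, hgen⟩

theorem exists_max_isIso (f : Y ⟶ X) :
    ∃ V : X.Opens, IsIso (f ∣_ V) ∧ ∀ W : X.Opens, IsIso (f ∣_ W) → W ≤ V := by
  refine ⟨⨆ W : {W : X.Opens // IsIso (f ∣_ W)}, W.1, ?_, fun W hW => le_iSup (fun W : {W : X.Opens // IsIso (f ∣_ W)} => W.1) ⟨W, hW⟩⟩
  let V := fun W : {W : X.Opens // IsIso (f ∣_ W)} => W.1
  let 𝒰 := Scheme.Opens.iSupOpenCover V
  refine (IsZariskiLocalAtTarget.iff_of_openCover (P := .isomorphisms _) 𝒰).mpr fun i ↦ ?_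
  refine (MorphismProperty.arrow_mk_iso_iff (.isomorphisms _)
    ((morphismRestrictRestrict ..).symm ≪≫ morphismRestrictOpensRange ..)).mp ?_
  have : Scheme.Opens.ι _ ''ᵁ (𝒰.f i).opensRange = V i := by
    simp only [Scheme.Opens.iSupOpenCover, 𝒰, ← Scheme.Hom.opensRange_comp, Scheme.homOfLE_ι,
      Scheme.Opens.opensRange_ι]
  convert! i.2

theorem exists_open_of_normal [IsLocallyNoetherian X] (f : Y ⟶ X) [IsProper f]
    (hN : ∀ x : X, IsIntegrallyClosed (X.presheaf.stalk x))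
    (hgen : f (genericPoint Y) = genericPoint X) (hbir : IsIso (f.stalkMap (genericPoint Y))) :
    ∃ V : X.Opens, IsIso (f ∣_ V) ∧
      (∀ x : X, x ∉ (V : Set X) → ∀ z : ↥(f.fiber x), ¬ IsOpen ({z} : Set ↥(f.fiber x))) ∧
      (∀ x : X, x ∉ (V : Set X) → 2 ≤ ringKrullDim (X.presheaf.stalk x)) := by
  obtain ⟨V, hV, hmax⟩ := exists_max_isIso f
  have hout : ∀ y, f.QuasiFiniteAt y → f y ∈ V := fun y hq => by
    obtain ⟨W, hyW, hW⟩ := exists_isIso_restrict f hgen hbir y (hN _) hq
    exact hmax W hW hyW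
  refine ⟨V, hV, fun x hx z hz => ?_, fun x hx => ?_⟩
  · obtain ⟨y, hy, rfl⟩ : ∃ (y : Y) (e : f y = x), (f.fiberHomeo x).symm ⟨y, e⟩ = z :=
      ⟨((f.fiberHomeo x) z).1, ((f.fiberHomeo x) z).2, (f.fiberHomeo x).symm_apply_apply z⟩
    subst hy
    exact hx (hout y (Scheme.Hom.quasiFiniteAt_iff_isOpen_singleton_asFiber.2 hz))
  · by_contra hd
    obtain ⟨y, rfl⟩ := surjective f hgen x
    refine hx (hout y (quasiFiniteAt_of_dim_le_one f hbir y ?_))
    exact le_one_of_not_two_le hd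

end Groth.Agent.BiratPt18
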