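import Groth.Agent.Lib.BiratPt18.Global
import Mathlib.AlgebraicGeometry.Morphisms.Affine

/-!
# Proper birational morphisms with `f_* O = O`
-/

universe u

open CategoryTheory AlgebraicGeometry TopologicalSpace

namespace Groth.Agent.BiratPt18

variable {X Y : Scheme.{u}}

theorem isIso_of_affine_app_bijective (f : Y ⟶ X) [IsAffineHom f]
    (h : ∀ U : X.Opens, Function.Bijective (f.app U)) : IsIso f := by
  change MorphismProperty.isomorphisms Scheme f
  refine HasAffineProperty.of_iSup_eq_top (P := MorphismProperty.isomorphisms Scheme)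
    (Q := fun X _ f _ => IsAffine X ∧ IsIso f.appTop)
    (fun U : X.affineOpens => U) (iSup_affineOpens_eq_top X) fun U => ?_
  refine ⟨U.2.preimage f, ?_⟩
  rw [morphismRestrict_appTop]
  exact IsIso.comp_isIso' ((ConcreteCategory.isIso_iff_bijective _).mpr (h _))
    (Functor.map_isIso Y.presheaf (eqToHom _).op)

theorem exists_open_of_pushforward [IsIntegral X] [IsIntegral Y] [IsLocallyNoetherian X] (f : Y ⟶ X)
    [IsProper f] (hgen : f (genericPoint Y) = genericPoint X)
    (hbir : IsIso (f.stalkMap (genericPoint Y))) (hO : ∀ U : X.Opens, Function.Bijective (f.app U)) :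
    ∃ V : X.Opens, IsIso (f ∣_ V) ∧ ∀ x : X, x ∉ (V : Set X) → 2 ≤ ringKrullDim (X.presheaf.stalk x) := by
  let T : Set X := f '' {y | f.QuasiFiniteAt y}ᶜ
  have hT : IsClosed T := f.isClosedMap _ f.isOpen_quasiFiniteAt.isClosed_compl
  let V : X.Opens := ⟨Tᶜ, hT.isOpen_compl⟩
  refine ⟨V, ?_, fun x hx => ?_⟩
  · haveI : LocallyQuasiFinite (f ∣_ V) := by
      refine locallyQuasiFinite_of_forall _ fun y => ?_
      have h1 : f.QuasiFiniteAt y.1 := by
        by_contra hn
        exact y.2 ⟨y.1, hn, rfl⟩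
      exact (RingHom.QuasiFinite.respectsIso.arrow_mk_iso_iff (morphismRestrictStalkMap f V y)).2 h1
    haveI : IsProper (f ∣_ V) := inferInstance
    haveI := IsFinite.of_isProper_of_locallyQuasiFinite (f ∣_ V)
    refine isIso_of_affine_app_bijective (f ∣_ V) fun U => ?_
    rw [morphismRestrict_app]
    refine ((ConcreteCategory.isIso_iff_bijective _).1 ?_)
    exact IsIso.comp_isIso' ((ConcreteCategory.isIso_iff_bijective _).mpr (hO _))
      (Functor.map_isIso Y.presheaf (eqToHom _).op)
  · by_contra hd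
    obtain ⟨y, hy, rfl⟩ : x ∈ T := not_not.1 hx
    exact hy (quasiFiniteAt_of_dim_le_one f hbir y (le_one_of_not_two_le hd))

end Groth.Agent.BiratPt18
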