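import Mathlib.AlgebraicGeometry.Morphisms.Integral
import Mathlib.AlgebraicGeometry.FunctionField
import Mathlib.RingTheory.IntegralClosure.IntegrallyClosed

/-!
# Integral birational morphisms at a normal point
-/

universe u

open CategoryTheory AlgebraicGeometry TopologicalSpace

namespace Groth.Agent.BiratPt18

variable {X Z : Scheme.{u}} [IsIntegral X] [IsIntegral Z]

theorem exists_mul_eq (g : Z ⟶ X) [IsIntegralHom g] (hgen : g (genericPoint Z) = genericPoint X)
    (hbir : IsIso (g.stalkMap (genericPoint Z))) {x : X} (hx : IsIntegrallyClosed (X.presheaf.stalk x))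
    {V : X.Opens} (hV : IsAffineOpen V) (hxV : x ∈ V) (b : Γ(Z, g ⁻¹ᵁ V)) :
    ∃ a s : Γ(X, V), IsUnit (X.presheaf.germ V x hxV s) ∧ g.app V s * b = g.app V a := by
  haveI : Nonempty V := ⟨⟨x, hxV⟩⟩
  have hmem : g (genericPoint Z) ∈ V := by
    rw [hgen]; exact ((genericPoint_spec X).mem_open_set_iff V.isOpen).mpr ⟨x, trivial, hxV⟩
  haveI : Nonempty (g ⁻¹ᵁ V : Z.Opens) := ⟨⟨_, hmem⟩⟩
  haveI : IsIso (X.presheaf.stalkSpecializes (specializes_of_eq hgen)) :=
    ⟨X.presheaf.stalkSpecializes (specializes_of_eq hgen.symm), by simp, by simp⟩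
  let e := X.presheaf.stalkSpecializes (specializes_of_eq hgen) ≫ g.stalkMap (genericPoint Z)
  haveI : IsIso e := IsIso.comp_isIso' inferInstance hbir
  have hebij := ConcreteCategory.bijective_of_isIso e
  have hc : X.germToFunctionField V ≫ e = g.app V ≫ Z.germToFunctionField (g ⁻¹ᵁ V) := by
    dsimp only [e, Scheme.germToFunctionField]
    rw [← Category.assoc, TopCat.Presheaf.germ_stalkSpecializes, Scheme.Hom.germ_stalkMap]
  have hcc : ∀ a, e (X.germToFunctionField V a) = Z.germToFunctionField (g ⁻¹ᵁ V) (g.app V a) :=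
    fun a => ConcreteCategory.congr_hom hc a
  obtain ⟨z, hz⟩ := hebij.2 (Z.germToFunctionField (g ⁻¹ᵁ V) b)
  obtain ⟨p, hp, hp0⟩ := IsIntegralHom.isIntegral_app g V hV b
  letI := X.presheaf.algebra_section_stalk (U := V) ⟨x, hxV⟩
  haveI := hV.isLocalization_stalk ⟨x, hxV⟩
  have hint : (X.germToFunctionField V).hom.IsIntegralElem z := by
    refine ⟨p, hp, hebij.1 ?_⟩
    change e.hom _ = e.hom 0
    rw [Polynomial.hom_eval₂, map_zero,
      show e.hom z = Z.germToFunctionField (g ⁻¹ᵁ V) b from hz,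
      show e.hom.comp (X.germToFunctionField V).hom =
        (Z.germToFunctionField (g ⁻¹ᵁ V)).hom.comp (g.app V).hom from RingHom.ext hcc,
      ← Polynomial.hom_eval₂, hp0, map_zero]
  have hgerm : ∀ a, algebraMap (X.presheaf.stalk x) X.functionField (X.presheaf.germ V x hxV a) =
      X.germToFunctionField V a := fun a =>
    ConcreteCategory.congr_hom (TopCat.Presheaf.germ_stalkSpecializes X.presheaf hxV
      ((genericPoint_spec X).specializes trivial)) a
  have hint' : IsIntegral (X.presheaf.stalk x) z := by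
    obtain ⟨q, hq, hq0⟩ := hint
    refine ⟨q.map (X.presheaf.germ V x hxV).hom, hq.map _, ?_⟩
    rw [Polynomial.eval₂_map, show (algebraMap (X.presheaf.stalk x) X.functionField).comp
      (X.presheaf.germ V x hxV).hom = (X.germToFunctionField V).hom from RingHom.ext hgerm]
    exact hq0
  obtain ⟨c, hc'⟩ := IsIntegrallyClosed.isIntegral_iff.1 hint'
  obtain ⟨a, s, rfl⟩ := IsLocalization.exists_mk'_eq (hV.primeIdealOf ⟨x, hxV⟩).asIdeal.primeCompl c
  refine ⟨a, s, IsLocalization.map_units _ s, Z.germToFunctionField_injective (g ⁻¹ᵁ V) ?_⟩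
  rw [map_mul, ← hcc, ← hcc, ← hz, ← map_mul]
  congr 1
  rw [← hgerm, ← hgerm, ← hc', ← map_mul]
  congr 1
  exact IsLocalization.mk'_spec' _ a s

theorem existsUnique_and_isIso (g : Z ⟶ X) [IsIntegralHom g]
    (hgen : g (genericPoint Z) = genericPoint X) (hbir : IsIso (g.stalkMap (genericPoint Z)))
    {x : X} (hx : IsIntegrallyClosed (X.presheaf.stalk x)) (z : Z) (hz : g z = x) :
    (∀ z' : Z, g z' = x → z' = z) ∧ IsIso (g.stalkMap z) := by
  subst hz
  obtain ⟨_, ⟨V, hV, rfl⟩, hxV, -⟩ :=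
    X.isBasis_affineOpens.exists_subset_of_mem_open (Set.mem_univ (g z)) isOpen_univ
  have hW : IsAffineOpen (g ⁻¹ᵁ V) := hV.preimage g
  have hunit : ∀ (w : Z) (hw : g w = g z) (a : Γ(X, V)),
      IsUnit (Z.presheaf.germ (g ⁻¹ᵁ V) w (show g w ∈ V from hw ▸ hxV) (g.app V a)) ↔
        IsUnit (X.presheaf.germ V (g z) hxV a) := by
    intro w hw a
    rw [← Scheme.Hom.germ_stalkMap_apply g V w (show g w ∈ V from hw ▸ hxV) a, isUnit_map_iff,
      ← X.mem_basicOpen a (g w) (show g w ∈ V from hw ▸ hxV), ← X.mem_basicOpen a (g z) hxV, hw]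
  refine ⟨fun w hw => ?_, ?_⟩
  · have hwV : g w ∈ V := hw ▸ hxV
    have hiff : ∀ b, IsUnit (Z.presheaf.germ (g ⁻¹ᵁ V) w hwV b) ↔
        IsUnit (Z.presheaf.germ (g ⁻¹ᵁ V) z hxV b) := by
      intro b
      obtain ⟨a, s, hs, hsb⟩ := exists_mul_eq g hgen hbir hx hV hxV b
      have key : ∀ (v : Z) (hv : g v = g z),
          (IsUnit (Z.presheaf.germ (g ⁻¹ᵁ V) v (show g v ∈ V from hv ▸ hxV) b) ↔
            IsUnit (X.presheaf.germ V (g z) hxV a)) := fun v hv => by
        rw [← hunit v hv a, ← hsb, map_mul, IsUnit.mul_iff]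
        exact ⟨fun h => ⟨(hunit v hv s).2 hs, h⟩, fun h => h.2⟩
      exact (key w hw).trans (key z rfl).symm
    have hprime : hW.primeIdealOf ⟨w, hwV⟩ = hW.primeIdealOf ⟨z, hxV⟩ := by
      refine PrimeSpectrum.ext (Ideal.ext fun b => not_iff_not.1 ?_)
      letI := Z.presheaf.algebra_section_stalk (U := g ⁻¹ᵁ V) ⟨w, hwV⟩
      haveI := hW.isLocalization_stalk ⟨w, hwV⟩
      have h1 : IsUnit (Z.presheaf.germ (g ⁻¹ᵁ V) w hwV b) ↔ b ∉ (hW.primeIdealOf ⟨w, hwV⟩).asIdeal :=
        IsLocalization.AtPrime.isUnit_to_map_iff (Z.presheaf.stalk w) _ b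
      letI := Z.presheaf.algebra_section_stalk (U := g ⁻¹ᵁ V) ⟨z, hxV⟩
      haveI := hW.isLocalization_stalk ⟨z, hxV⟩
      have h2 : IsUnit (Z.presheaf.germ (g ⁻¹ᵁ V) z hxV b) ↔ b ∉ (hW.primeIdealOf ⟨z, hxV⟩).asIdeal :=
        IsLocalization.AtPrime.isUnit_to_map_iff (Z.presheaf.stalk z) _ b
      rw [← h1, ← h2]; exact hiff b
    have := congrArg hW.fromSpec hprime
    rwa [hW.fromSpec_primeIdealOf, hW.fromSpec_primeIdealOf] at this
  · refine (ConcreteCategory.isIso_iff_bijective _).mpr ⟨?_, fun c => ?_⟩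
    · intro c c' h
      refine IsFractionRing.injective (X.presheaf.stalk (g z)) X.functionField ?_
      have hzg : genericPoint Z ⤳ z := (genericPoint_spec Z).specializes trivial
      have h1 := Scheme.Hom.stalkSpecializes_stalkMap g (genericPoint Z) z hzg
      have h2 : ∀ d, g.stalkMap (genericPoint Z) (X.presheaf.stalkSpecializes (hzg.map g.continuous) d) =
          Z.presheaf.stalkSpecializes hzg (g.stalkMap z d) := fun d => ConcreteCategory.congr_hom h1 d
      have h3 := (ConcreteCategory.bijective_of_isIso (g.stalkMap (genericPoint Z))).1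
        ((h2 c).trans ((congrArg _ h).trans (h2 c').symm))
      have h4 : algebraMap (X.presheaf.stalk (g z)) X.functionField =
          ((X.presheaf.stalkSpecializes (hzg.map g.continuous)) ≫
            X.presheaf.stalkSpecializes (specializes_of_eq hgen.symm)).hom := by
        rw [TopCat.Presheaf.stalkSpecializes_comp]
        rfl
      rw [h4]
      exact congrArg (fun d => X.presheaf.stalkSpecializes (specializes_of_eq hgen.symm) d) h3
    · letI := Z.presheaf.algebra_section_stalk (U := g ⁻¹ᵁ V) ⟨z, hxV⟩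
      haveI := hW.isLocalization_stalk ⟨z, hxV⟩
      obtain ⟨b, t, rfl⟩ := IsLocalization.exists_mk'_eq (hW.primeIdealOf ⟨z, hxV⟩).asIdeal.primeCompl c
      obtain ⟨a, s, hs, hsb⟩ := exists_mul_eq g hgen hbir hx hV hxV b
      obtain ⟨a', s', hs', hsb'⟩ := exists_mul_eq g hgen hbir hx hV hxV t.1
      have ht : IsUnit (Z.presheaf.germ (g ⁻¹ᵁ V) z hxV t.1) := IsLocalization.map_units _ t
      have ha' : IsUnit (X.presheaf.germ V (g z) hxV a') := by
        rw [← hunit z rfl, ← hsb', map_mul, IsUnit.mul_iff]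
        exact ⟨(hunit z rfl s').2 hs', ht⟩
      obtain ⟨u, hu⟩ := hs
      obtain ⟨v, hv⟩ := ha'
      refine ⟨X.presheaf.germ V (g z) hxV (a * s') * ↑(u * v)⁻¹, ?_⟩
      refine IsLocalization.eq_mk'_iff_mul_eq.2 ?_
      change g.stalkMap z _ * Z.presheaf.germ (g ⁻¹ᵁ V) z hxV t.1 = Z.presheaf.germ (g ⁻¹ᵁ V) z hxV b
      have key : g.stalkMap z (X.presheaf.germ V (g z) hxV (a * s')) *
          Z.presheaf.germ (g ⁻¹ᵁ V) z hxV t.1 =
          g.stalkMap z ↑(u * v) * Z.presheaf.germ (g ⁻¹ᵁ V) z hxV b := by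
        rw [Units.val_mul, hu, hv, ← map_mul (X.presheaf.germ V (g z) hxV).hom]
        simp only [Scheme.Hom.germ_stalkMap_apply, ← map_mul]
        congr 1
        rw [map_mul, map_mul, ← hsb, ← hsb']
        ring
      rw [map_mul, mul_right_comm, key, mul_right_comm, ← map_mul, Units.mul_inv, map_one, one_mul]

end Groth.Agent.BiratPt18
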