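import Groth.Agent.Lib.BiratPt18.Integral
import Groth.Agent.Lib.Spread18.OpenImm
import Mathlib.AlgebraicGeometry.ZariskisMainTheorem

/-!
# Proper birational morphisms, quasi-finite over a normal point
-/

universe u

open CategoryTheory AlgebraicGeometry TopologicalSpace

namespace Groth.Agent.BiratPt18

variable {X Y : Scheme.{u}} [IsIntegral X] [IsIntegral Y]

theorem generic_map {Z W : Scheme.{u}} [IrreducibleSpace Z] [IrreducibleSpace W] (f : Z ⟶ W) [IsDominant f] :
    f (genericPoint Z) = genericPoint W := by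
  have h := (genericPoint_spec Z).image f.continuous
  rw [Set.image_univ, f.denseRange.closure_range] at h
  exact h.eq (genericPoint_spec W)

theorem birational_of_isIso_restrict (f : Y ⟶ X) (W : X.Opens) (hW : (W : Set X).Nonempty)
    (hfW : IsIso (f ∣_ W)) :
    f (genericPoint Y) = genericPoint X ∧ IsIso (f.stalkMap (genericPoint Y)) := by
  haveI : IsDominant f := by
    refine ⟨dense_iff_closure_eq.2 (Set.eq_univ_of_univ_subset ?_)⟩
    rw [← (genericPoint_spec X).def]
    refine closure_mono (Set.singleton_subset_iff.2 ?_)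
    have hηW : genericPoint X ∈ W :=
      ((genericPoint_spec X).mem_open_set_iff W.isOpen).mpr (by simpa using hW)
    obtain ⟨y, hy⟩ := (f ∣_ W).homeomorph.surjective ⟨_, hηW⟩
    exact ⟨y.1, (morphismRestrict_base_coe f W y).symm.trans (congrArg Subtype.val hy)⟩
  have hgen := generic_map f
  refine ⟨hgen, ?_⟩
  have hy : genericPoint Y ∈ f ⁻¹ᵁ W := by
    change f (genericPoint Y) ∈ W
    rw [hgen]; exact ((genericPoint_spec X).mem_open_set_iff W.isOpen).mpr (by simpa using hW)
  have h : IsIso ((f ∣_ W).stalkMap ⟨genericPoint Y, hy⟩) := inferInstance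
  exact ((MorphismProperty.isomorphisms CommRingCat).arrow_mk_iso_iff
    (morphismRestrictStalkMap f W ⟨genericPoint Y, hy⟩)).1 h

theorem exists_isIso_restrict (f : Y ⟶ X) [IsProper f]
    (hgen : f (genericPoint Y) = genericPoint X) (hbir : IsIso (f.stalkMap (genericPoint Y)))
    (y : Y) (hx : IsIntegrallyClosed (X.presheaf.stalk (f y))) (hq : f.QuasiFiniteAt y) :
    ∃ V : X.Opens, f y ∈ V ∧ IsIso (f ∣_ V) := by
  obtain ⟨V, hyV, hV⟩ := f.exists_mem_and_isIso_morphismRestrict_toNormalization y hq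
  let t := f.toNormalization
  let g := f.fromNormalization
  have htg : t ≫ g = f := f.toNormalization_fromNormalization
  have ht : t (genericPoint Y) = genericPoint f.normalization := generic_map t
  have hgen' : g (genericPoint f.normalization) = genericPoint X := by
    rw [← ht, ← Scheme.Hom.comp_apply, htg, hgen]
  have hbir' : IsIso (g.stalkMap (genericPoint f.normalization)) := by
    rw [← ht]
    have h0 : IsIso ((t ≫ g).stalkMap (genericPoint Y)) := by rw [htg]; exact hbir
    rw [Scheme.Hom.stalkMap_comp] at h0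
    have hηV : genericPoint Y ∈ t ⁻¹ᵁ V :=
      ((genericPoint_spec Y).mem_open_set_iff (t ⁻¹ᵁ V).2).mpr ⟨y, trivial, hyV⟩
    have h1 : IsIso (t.stalkMap (genericPoint Y)) :=
      ((MorphismProperty.isomorphisms CommRingCat).arrow_mk_iso_iff
        (morphismRestrictStalkMap t V ⟨_, hηV⟩)).1 inferInstance
    exact @IsIso.of_isIso_comp_right _ _ _ _ _ (g.stalkMap _) (t.stalkMap (genericPoint Y)) h1 h0
  have hgy : g (t y) = f y := by rw [← Scheme.Hom.comp_apply, htg]
  obtain ⟨huniq, hiso⟩ := existsUnique_and_isIso g hgen' hbir' hx (t y) hgy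
  have hty : IsIso (t.stalkMap y) :=
    ((MorphismProperty.isomorphisms CommRingCat).arrow_mk_iso_iff
      (morphismRestrictStalkMap t V ⟨y, hyV⟩)).1 inferInstance
  have hfy : IsIso (f.stalkMap y) := by
    have h : IsIso ((t ≫ g).stalkMap y) := by
      rw [Scheme.Hom.stalkMap_comp]; exact IsIso.comp_isIso' hiso hty
    rwa [htg] at h
  obtain ⟨U, hyU, hU⟩ := Spread18.exists_openImmersion_nhd f y hfy
  have hfib : ∀ y' : Y, f y' = f y → y' = y := by
    intro y' hy'
    have h1 : t y' = t y := huniq (t y') (by rw [← Scheme.Hom.comp_apply, htg, hy'])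
    have h2 : y' ∈ t ⁻¹ᵁ V := by change t y' ∈ V; rw [h1]; exact hyV
    have h3 := (t ∣_ V).homeomorph.injective (a₁ := ⟨y', h2⟩) (a₂ := ⟨y, hyV⟩)
      (Subtype.ext ((morphismRestrict_base_coe t V ⟨y', h2⟩).trans (h1.trans (morphismRestrict_base_coe t V ⟨y, hyV⟩).symm)))
    exact congrArg Subtype.val h3
  let T : Set X := f '' (U : Set Y)ᶜ
  have hT : IsClosed T := f.isClosedMap _ U.isOpen.isClosed_compl
  let V' : X.Opens := (U.ι ≫ f).opensRange ⊓ ⟨Tᶜ, hT.isOpen_compl⟩
  have hV' : f y ∈ V' := ⟨⟨⟨y, hyU⟩, rfl⟩, fun ⟨y', hy', he⟩ => hy' (hfib y' he ▸ hyU)⟩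
  refine ⟨V', hV', ?_⟩
  have hle : f ⁻¹ᵁ V' ≤ U := fun z hz => by
    by_contra hzU
    exact hz.2 ⟨z, hzU, rfl⟩
  haveI : IsOpenImmersion (f ∣_ V') := by
    have e : (f ∣_ V') ≫ V'.ι = Y.homOfLE hle ≫ U.ι ≫ f := by
      rw [morphismRestrict_ι, Scheme.homOfLE_ι_assoc]
    haveI : IsOpenImmersion ((f ∣_ V') ≫ V'.ι) := by rw [e]; infer_instance
    exact IsOpenImmersion.of_comp (f ∣_ V') V'.ι
  haveI : Epi (f ∣_ V').base := by
    rw [TopCat.epi_iff_surjective]
    rintro ⟨v, hv⟩
    obtain ⟨⟨w, hwU⟩, hw⟩ := hv.1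
    have hwv : f w = v := hw
    exact ⟨⟨w, by change f w ∈ V'; rw [hwv]; exact hv⟩, Subtype.ext ((morphismRestrict_base_coe f V' _).trans hwv)⟩
  exact IsOpenImmersion.isIso _

end Groth.Agent.BiratPt18
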